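import Groth.Agent.FPGrp.Group
import Groth.Prelude.Def_NonAbH2
import Groth.Prelude.Def_ActBC

/-!
# Actions through base change and stages
-/

set_option autoImplicit false
set_option backward.isDefEq.respectTransparency false
set_option backward.isDefEq.respectTransparency.types false
set_option linter.style.haveILetI false

universe u

open CategoryTheory CategoryTheory.Limits MonoidalCategory CartesianMonoidalCategory MonObj GrpObj AlgebraicGeometry

noncomputable section

namespace Groth.Agent.TorsorLimLib

section Iso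

variable {S : Scheme.{u}} {G X Y : Over S} [GrpObj G]

/-- An action transported along an isomorphism. -/
def ofIso (a : AlgGrp.Action G X) (e : Y ≅ X) : AlgGrp.Action G Y where
  act := (G ◁ e.hom) ≫ a.act ≫ e.inv
  one_act := by
    rw [← whisker_exchange_assoc, reassoc_of% a.one_act, MonoidalCategory.leftUnitor_naturality_assoc]
    simp
  mul_act := by
    rw [← whisker_exchange_assoc, reassoc_of% a.mul_act, MonoidalCategory.whiskerLeft_comp,
      MonoidalCategory.whiskerLeft_comp]
    simp only [Category.assoc]
    have hn : (G ⊗ G) ◁ e.hom ≫ (α_ G G X).hom = (α_ G G Y).hom ≫ G ◁ G ◁ e.hom :=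
      associator_naturality_right _ _ _
    rw [reassoc_of% hn, ← MonoidalCategory.whiskerLeft_comp_assoc G e.inv e.hom, Iso.inv_hom_id,
      MonoidalCategory.whiskerLeft_id, Category.id_comp]

end Iso

section Map

variable {S S' : Scheme.{u}} (π : S' ⟶ S) {G X : Over S} [GrpObj G]

/-- The action axioms hold after base change for a morphism inducing an action. -/
theorem map_axioms (f : G ⊗ X ⟶ X) (b : AlgGrp.Action (Red.bc π G) (Red.bc π X))
    (hb : b.act = Functor.LaxMonoidal.μ (Over.pullback π) G X ≫ (Over.pullback π).map f) :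
    (Over.pullback π).map ((η[G] ▷ X) ≫ f) = (Over.pullback π).map (λ_ X).hom ∧
      (Over.pullback π).map ((μ[G] ▷ X) ≫ f) =
        (Over.pullback π).map ((α_ G G X).hom ≫ (G ◁ f) ≫ f) := by
  constructor
  · have h := b.one_act
    rw [hb, Functor.obj.η_def, comp_whiskerRight, Category.assoc, Functor.LaxMonoidal.μ_natural_left_assoc,
      ← Functor.map_comp, Functor.LaxMonoidal.left_unitality (Over.pullback π) X] at h
    rwa [cancel_epi, cancel_epi] at h
  · have h := b.mul_act
    rw [hb, Functor.obj.μ_def, comp_whiskerRight, Category.assoc, Functor.LaxMonoidal.μ_natural_left_assoc,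
      MonoidalCategory.whiskerLeft_comp, Category.assoc, Functor.LaxMonoidal.μ_natural_right_assoc,
      ← Functor.LaxMonoidal.associativity_assoc, ← Functor.map_comp, ← Functor.map_comp, ← Functor.map_comp,
      cancel_epi, cancel_epi] at h
    simpa only [Category.assoc] using h

/-- An action from the axioms after base change. -/
def actionOfMap (f : G ⊗ X ⟶ X)
    (h1 : (Over.pullback π).map ((η[G] ▷ X) ≫ f) = (Over.pullback π).map (λ_ X).hom)
    (h2 : (Over.pullback π).map ((μ[G] ▷ X) ≫ f) = (Over.pullback π).map ((α_ G G X).hom ≫ (G ◁ f) ≫ f)) :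
    AlgGrp.Action (Red.bc π G) (Red.bc π X) where
  act := Functor.LaxMonoidal.μ (Over.pullback π) G X ≫ (Over.pullback π).map f
  one_act := by
    rw [Functor.obj.η_def, comp_whiskerRight, Category.assoc, Functor.LaxMonoidal.μ_natural_left_assoc,
      ← Functor.map_comp, h1]
    exact (Functor.LaxMonoidal.left_unitality (Over.pullback π) X).symm
  mul_act := by
    rw [Functor.obj.μ_def, comp_whiskerRight, Category.assoc, Functor.LaxMonoidal.μ_natural_left_assoc,
      ← Functor.map_comp, h2, Functor.map_comp, Functor.map_comp, Functor.LaxMonoidal.associativity_assoc,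
      ← Functor.LaxMonoidal.μ_natural_right_assoc, MonoidalCategory.whiskerLeft_comp, Category.assoc]

/-- Comparisons with a fixed action persist to a further stage. -/
theorem comm_refine {S'' : Scheme.{u}} (p : S'' ⟶ S') {d : S'' ⟶ S} (h : p ≫ π = d) (f : G ⊗ X ⟶ X)
    {GT V : Over S''} (act : GT ⊗ V ⟶ V) (Φ : Red.bc d G ⟶ GT) (Ψ : Red.bc d X ⟶ V)
    (hc : Functor.LaxMonoidal.μ (Over.pullback d) G X ≫ (Over.pullback d).map f ≫ Ψ = (Φ ⊗ₘ Ψ) ≫ act) :
    Functor.LaxMonoidal.μ (Over.pullback p) (Red.bc π G) (Red.bc π X) ≫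
        (Over.pullback p).map (Functor.LaxMonoidal.μ (Over.pullback π) G X ≫ (Over.pullback π).map f) ≫
        (ActBC.bcCompIso p π X h).hom ≫ Ψ =
      (((ActBC.bcCompIso p π G h).hom ≫ Φ) ⊗ₘ ((ActBC.bcCompIso p π X h).hom ≫ Ψ)) ≫ act := by
  rw [Functor.map_comp, Category.assoc, ActBC.bcCompIso_hom_naturality_assoc,
    reassoc_of% (FPGrp.bcCompIso_tensor p π h G X), hc, tensorHom_comp_tensorHom_assoc]

end Map

end Groth.Agent.TorsorLimLib
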